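import Groth.Agent.S15400
import Groth.Agent.AbDualLib.Dual

/-!
# The sequence of a square-zero thickening for the group of classes of invertible modules
-/

set_option autoImplicit false
set_option backward.isDefEq.respectTransparency false
set_option backward.isDefEq.respectTransparency.types false
set_option linter.style.haveILetI false

universe u

open CategoryTheory CategoryTheory.Limits AlgebraicGeometry TopologicalSpace Opposite
open Groth.Agent.PicLib Groth.Agent.CohBase

noncomputable section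

namespace Groth.Agent.PicInf

variable {X Y : Scheme.{u}}

theorem isInvertibleCl_toCl (a : Pic Y) : PicF.IsInvertibleCl (AbDualLib.toCl a) := by
  obtain ⟨L, hL, rfl⟩ := exists_cls a
  exact ⟨L, rfl, hL⟩

/-- The two types of classes of invertible modules. -/
def setEquiv (Y : Scheme.{u}) : Pic Y ≃ PicLoc.PicSet Y :=
  Equiv.ofBijective (fun a => ⟨AbDualLib.toCl a, isInvertibleCl_toCl a⟩) ⟨fun a b h =>
    AbDualLib.toCl_injective (congrArg Subtype.val h), fun c => by
      obtain ⟨L, hL, rfl⟩ := PicGrp.exists_eq_cls c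
      exact ⟨cls hL, rfl⟩⟩

theorem setEquiv_cls {L : Y.Modules} (hL : PicF.IsInvertible L) : setEquiv Y (cls hL) = PicGrp.cls L hL := rfl

/-- The group law on the set of classes. -/
@[instance_reducible]
def law (Y : Scheme.{u}) : PicGrp.Law Y where
  toCommGroup := (setEquiv Y).symm.commGroup
  mul_val a b := by
    obtain ⟨a, rfl⟩ := (setEquiv Y).surjective a
    obtain ⟨b, rfl⟩ := (setEquiv Y).surjective b
    obtain ⟨L, hL, rfl⟩ := exists_cls a
    obtain ⟨M, hM, rfl⟩ := exists_cls b
    show ((setEquiv Y) ((setEquiv Y).symm _ * (setEquiv Y).symm _)).1 = _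
    rw [Equiv.symm_apply_apply, Equiv.symm_apply_apply]
    rfl
  one_eq := rfl

theorem pullMul (g : X ⟶ Y) : PicGrp.PullMul g := by
  rintro _ _ ⟨L, rfl, hL⟩ ⟨M, rfl, hM⟩
  exact Quot.sound ⟨AmpleLib.pullTensor g L M⟩

/-- The isomorphism of groups. -/
def grpEquiv (Y : Scheme.{u}) :
    letI := law Y
    Pic Y ≃* PicLoc.PicSet Y :=
  letI := law Y
  { setEquiv Y with
    map_mul' := fun a b => by
      apply Subtype.ext
      rw [PicGrp.mul_val]
      obtain ⟨L, hL, rfl⟩ := exists_cls a
      obtain ⟨M, hM, rfl⟩ := exists_cls b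
      rfl }

/-- The exact sequence. -/
theorem exists_seq (X' : Scheme.{u}) (I : X'.IdealSheafData) (hI : I * I = ⊥) :
    ∃ (δ₀ : (Γ(I.subscheme, ⊤))ˣ →* Multiplicative (Coh.HH X' (ClSub.idealMod I) 1))
      (α : Multiplicative (Coh.HH X' (ClSub.idealMod I) 1) →* Pic X')
      (δ₁ : Pic I.subscheme →* Multiplicative (Coh.HH X' (ClSub.idealMod I) 2)),
      δ₀.ker = (Units.map I.subschemeι.appTop.hom.toMonoidHom).range ∧
      α.ker = δ₀.range ∧ (pull I.subschemeι).ker = α.range ∧ δ₁.ker = (pull I.subschemeι).range := by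
  letI := law X'
  letI := law I.subscheme
  have hi := pullMul I.subschemeι
  obtain ⟨ε, δ₀, α, δ₁, -, -, h₀, hα, hp, h₁⟩ := S15400.result X' I hI hi
  have key : ∀ a : Pic X', grpEquiv I.subscheme (pull I.subschemeι a) =
      PicGrp.pullHom I.subschemeι hi (grpEquiv X' a) := fun a => by
    obtain ⟨L, hL, rfl⟩ := exists_cls a
    exact Subtype.ext rfl
  refine ⟨δ₀, (grpEquiv X').symm.toMonoidHom.comp α, δ₁.comp (grpEquiv I.subscheme).toMonoidHom, h₀, ?_, ?_, ?_⟩
  · rw [← hα]
    ext x
    simp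
  · ext a
    constructor
    · intro ha
      have : grpEquiv X' a ∈ (PicGrp.pullHom I.subschemeι hi).ker := by
        rw [MonoidHom.mem_ker, ← key, MonoidHom.mem_ker.1 ha, map_one]
      rw [hp] at this
      obtain ⟨x, hx⟩ := this
      exact ⟨x, by simp [hx]⟩
    · rintro ⟨x, rfl⟩
      have : α x ∈ (PicGrp.pullHom I.subschemeι hi).ker := hp.symm.le ⟨x, rfl⟩
      rw [MonoidHom.mem_ker]
      apply (grpEquiv I.subscheme).injective
      rw [key, map_one]
      simpa using this
  · ext b
    constructor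
    · intro hb
      have : grpEquiv I.subscheme b ∈ δ₁.ker := hb
      rw [h₁] at this
      obtain ⟨c, hc⟩ := this
      refine ⟨(grpEquiv X').symm c, (grpEquiv I.subscheme).injective ?_⟩
      rw [key, MulEquiv.apply_symm_apply, hc]
    · rintro ⟨a, rfl⟩
      have : PicGrp.pullHom I.subschemeι hi (grpEquiv X' a) ∈ δ₁.ker := h₁.symm.le ⟨_, rfl⟩
      show δ₁ (grpEquiv I.subscheme (pull I.subschemeι a)) = 1
      rw [key]
      exact this

/-- Multiplication by an invertible integer on cohomology is bijective. -/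
theorem bijective_nsmul_HH {Z : Scheme.{u}} (M : Z.Modules) (n : ℕ) (hn : IsUnit (n : Γ(Z, ⊤))) (p : ℕ) :
    Function.Bijective fun x : Coh.HH Z M p => n • x := by
  have hc : IsIso (n • 𝟙 (Coh.toAb M)) := by
    have hU : ∀ U : Z.Opens, Function.Bijective fun x : Γ(M, U) => n • x := fun U => by
      have hu : IsUnit (n : Γ(Z, U)) := by
        simpa using hn.map (Z.presheaf.map (homOfLE (le_top : U ≤ ⊤)).op).hom
      have : (fun x : Γ(M, U) => n • x) = fun x => (n : Γ(Z, U)) • x := funext fun x => (Nat.cast_smul_eq_nsmul _ n x).symm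
      rw [this]
      exact hu.smul_bijective
    haveI : IsIso (n • 𝟙 (Coh.toAb M)).hom := by
      haveI : ∀ U : Z.Opensᵒᵖ, IsIso ((n • 𝟙 (Coh.toAb M)).hom.app U) := fun U => by
        rw [ConcreteCategory.isIso_iff_bijective]
        have e : ⇑((n • 𝟙 (Coh.toAb M)).hom.app U) = fun x : (Coh.toAb M).obj.obj U => n • x := by
          funext x
          clear * - x
          induction n with
          | zero =>
            rw [zero_smul, zero_smul]
            rfl
          | succ k ih =>
            rw [succ_nsmul, succ_nsmul, ← ih]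
            rfl
        rw [e]
        exact hU U.unop
      exact NatIso.isIso_of_isIso_app _
    haveI : IsIso ((sheafToPresheaf _ _).map (n • 𝟙 (Coh.toAb M))) := ‹IsIso (n • 𝟙 (Coh.toAb M)).hom›
    exact isIso_of_fully_faithful (sheafToPresheaf _ _) _
  let e := HHEquiv M p
  have h : ∀ x : HU (⊤ : Z.Opens) (Coh.toAb M) p, hmap ⊤ (n • 𝟙 (Coh.toAb M)) p x = n • x := fun x => by
    show x.comp (Abelian.Ext.mk₀ (n • 𝟙 (Coh.toAb M))) (add_zero p) = _
    rw [show Abelian.Ext.mk₀ (n • 𝟙 (Coh.toAb M)) = n • Abelian.Ext.mk₀ (𝟙 (Coh.toAb M)) from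
      map_nsmul Abelian.Ext.addEquiv₀.symm n (𝟙 (Coh.toAb M)), ← Abelian.Ext.bilinearComp_apply_apply, map_nsmul,
      Abelian.Ext.bilinearComp_apply_apply, Abelian.Ext.comp_mk₀_id]
  have hb : Function.Bijective fun x : HU (⊤ : Z.Opens) (Coh.toAb M) p => n • x := by
    rw [← show (fun x => hmap ⊤ (n • 𝟙 (Coh.toAb M)) p x) = fun x => n • x from funext h]
    refine Function.bijective_iff_has_inverse.2 ⟨fun x => hmap ⊤ (inv (n • 𝟙 (Coh.toAb M))) p x, fun x => ?_, fun x => ?_⟩
    · show (x.comp (Abelian.Ext.mk₀ (n • 𝟙 (Coh.toAb M))) (add_zero p)).comp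
        (Abelian.Ext.mk₀ (inv (n • 𝟙 (Coh.toAb M)))) (add_zero p) = x
      rw [Abelian.Ext.comp_assoc_of_third_deg_zero, Abelian.Ext.mk₀_comp_mk₀, IsIso.hom_inv_id, Abelian.Ext.comp_mk₀_id]
    · show (x.comp (Abelian.Ext.mk₀ (inv (n • 𝟙 (Coh.toAb M)))) (add_zero p)).comp
        (Abelian.Ext.mk₀ (n • 𝟙 (Coh.toAb M))) (add_zero p) = x
      rw [Abelian.Ext.comp_assoc_of_third_deg_zero, Abelian.Ext.mk₀_comp_mk₀, IsIso.inv_hom_id, Abelian.Ext.comp_mk₀_id]
  have : (fun x : Coh.HH Z M p => n • x) = e.symm ∘ (fun x => n • x) ∘ e := by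
    funext x
    simp
  rw [this]
  exact e.symm.bijective.comp (hb.comp e.bijective)

end Groth.Agent.PicInf
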