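import Mathlib

/-!
# Roots of units in finite algebras over Artinian local rings with algebraically closed residue field
-/

set_option autoImplicit false

universe u

open IsLocalRing Polynomial

namespace Groth.Agent.PicInf

/-- A field finite over an Artinian local ring with algebraically closed residue field has all roots. -/
theorem exists_root_of_field {B L : Type u} [CommRing B] [IsLocalRing B] [IsArtinianRing B] [Field L] [Algebra B L]
    [Module.Finite B L] [IsAlgClosed (ResidueField B)] {n : ℕ} (hn : 0 < n) (u : L) : ∃ v : L, v ^ n = u := by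
  have hker : maximalIdeal B ≤ RingHom.ker (algebraMap B L) := by
    haveI : (RingHom.ker (algebraMap B L)).IsPrime := RingHom.ker_isPrime _
    exact (eq_maximalIdeal (IsArtinianRing.isMaximal_of_isPrime (RingHom.ker (algebraMap B L)))).ge
  let ι : ResidueField B →+* L := Ideal.Quotient.lift (maximalIdeal B) (algebraMap B L) fun a ha => hker ha
  letI := ι.toAlgebra
  haveI : IsScalarTower B (ResidueField B) L := IsScalarTower.of_algebraMap_eq fun _ => rfl
  haveI : Module.Finite (ResidueField B) L := Module.Finite.of_restrictScalars_finite B _ L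
  obtain ⟨w, rfl⟩ := (IsAlgClosed.algebraMap_bijective_of_isIntegral (k := ResidueField B) (K := L)).2 u
  obtain ⟨v, hv⟩ := IsAlgClosed.exists_pow_nat_eq w hn
  exact ⟨ι v, by rw [← map_pow, hv]; rfl⟩

/-- Units have all roots of invertible order. -/
theorem exists_unit_root {B R : Type u} [CommRing B] [IsLocalRing B] [IsArtinianRing B] [CommRing R] [Algebra B R]
    [Module.Finite B R] [IsAlgClosed (ResidueField B)] {n : ℕ} (hn : IsUnit (n : R)) (u : Rˣ) :
    ∃ v : Rˣ, v ^ n = u := by
  classical
  rcases subsingleton_or_nontrivial R with h | h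
  · exact ⟨1, Units.ext (Subsingleton.elim _ _)⟩
  have hn0 : 0 < n := Nat.pos_of_ne_zero fun h0 => by simp [h0] at hn
  haveI : IsArtinianRing R := IsArtinianRing.of_finite B R
  have hfield : ∀ m : MaximalSpectrum R, ∃ v : R, v ^ n - u ∈ m.asIdeal := fun m => by
    haveI := m.isMaximal
    letI := Ideal.Quotient.field m.asIdeal
    obtain ⟨v, hv⟩ := exists_root_of_field (B := B) hn0 (Ideal.Quotient.mk m.asIdeal u)
    obtain ⟨v, rfl⟩ := Ideal.Quotient.mk_surjective v
    exact ⟨v, by rw [← Ideal.Quotient.eq, map_pow, hv]⟩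
  choose v₀ hv₀ using hfield
  obtain ⟨v, hv⟩ := Ideal.exists_forall_sub_mem_ideal (I := fun m : MaximalSpectrum R => m.asIdeal)
    (fun m m' h => Ideal.isCoprime_iff_sup_eq.2 (m.isMaximal.coprime_of_ne m'.isMaximal fun e => h (MaximalSpectrum.ext e)))
    v₀
  have hmem : ∀ m : MaximalSpectrum R, v ^ n - u ∈ m.asIdeal := fun m => by
    have h1 : v ^ n - v₀ m ^ n ∈ m.asIdeal := by
      rw [← Ideal.Quotient.eq, map_pow, map_pow, Ideal.Quotient.eq.2 (hv m)]
    simpa using m.asIdeal.add_mem h1 (hv₀ m)
  have hnil : IsNilpotent (v ^ n - (u : R)) := by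
    rw [← mem_nilradical, nilradical_eq_sInf, Ideal.mem_sInf]
    intro p hp
    haveI : p.IsPrime := hp
    exact hmem ⟨p, IsArtinianRing.isMaximal_of_isPrime p⟩
  have hvn : IsUnit (v ^ n) := by
    have := hnil.isUnit_add_left_of_commute u.isUnit (Commute.all _ _)
    simpa using this
  have hvu : IsUnit v := (isUnit_pow_iff hn0.ne').1 hvn
  let P : R[X] := X ^ n - C (u : R)
  have h1 : IsNilpotent (aeval v P) := by simpa [P] using hnil
  have h2 : IsUnit (aeval v (derivative P)) := by
    simpa [P, Polynomial.derivative_X_pow] using hn.mul (hvu.pow (n - 1))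
  obtain ⟨w, ⟨hw₁, hw₂⟩, -⟩ := existsUnique_nilpotent_sub_and_aeval_eq_zero h1 h2
  have hw : w ^ n = u := by simpa [P, sub_eq_zero] using hw₂
  have hwu : IsUnit w := (isUnit_pow_iff hn0.ne').1 (hw ▸ u.isUnit)
  exact ⟨hwu.unit, Units.ext (by simpa using hw)⟩

end Groth.Agent.PicInf
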