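import Groth.Agent.PicInfLib.Bridge
import Groth.Agent.PicInfLib.Roots
import Groth.Agent.InvDescLib.RelPic
import Groth.Agent.ConormalLib.ThickenOps
import Groth.Agent.ConormalLib.UnivRing
import Groth.Agent.RpushLib.Finite
import Groth.Agent.QCohLib.Coherent

/-!
# The sequence for the base change of a family along a square-zero quotient
-/

set_option autoImplicit false
set_option backward.isDefEq.respectTransparency false
set_option backward.isDefEq.respectTransparency.types false
set_option linter.style.haveILetI false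

universe u

open CategoryTheory CategoryTheory.Limits AlgebraicGeometry TopologicalSpace
open Groth.Agent.PicLib

noncomputable section

namespace Groth.Agent.PicInf

/-- The sequence of a closed immersion with ideal of square zero. -/
theorem exists_seq_of_closedImmersion {Z X' : Scheme.{u}} (i : Z ⟶ X') [IsClosedImmersion i]
    (hsq : i.ker * i.ker = ⊥) :
    ∃ (δ₀ : (Γ(Z, ⊤))ˣ →* Multiplicative (Coh.HH X' (ClSub.idealMod i.ker) 1))
      (α : Multiplicative (Coh.HH X' (ClSub.idealMod i.ker) 1) →* Pic X')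
      (δ₁ : Pic Z →* Multiplicative (Coh.HH X' (ClSub.idealMod i.ker) 2)),
      α.ker = δ₀.range ∧ (pull i).ker = α.range ∧ δ₁.ker = (pull i).range := by
  obtain ⟨δ₀, α, δ₁, -, hα, hp, h₁⟩ := exists_seq X' i.ker hsq
  let e : Z ≅ i.ker.subscheme := asIso i.toImage
  have he : e.hom ≫ i.ker.subschemeι = i := i.toImage_imageι
  have hfac : ∀ c, pull i c = pull e.hom (pull i.ker.subschemeι c) := fun c => by rw [← pull_comp, he]
  have hinj : Function.Injective (pull e.hom) := fun a b h => by
    have := congrArg (pull e.inv) h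
    rwa [← pull_comp, ← pull_comp, e.inv_hom_id, pull_id, pull_id] at this
  let eu : Γ(i.ker.subscheme, ⊤) →+* Γ(Z, ⊤) := e.hom.appTop.hom
  let eu' : Γ(Z, ⊤) →+* Γ(i.ker.subscheme, ⊤) := e.inv.appTop.hom
  have hsurj : Function.Surjective (Units.map eu'.toMonoidHom) := fun w =>
    ⟨Units.map eu.toMonoidHom w, Units.ext (by
      show (e.hom.appTop ≫ e.inv.appTop).hom w.1 = w.1
      rw [← Scheme.Hom.comp_appTop, e.inv_hom_id, Scheme.Hom.id_appTop]
      rfl)⟩
  refine ⟨δ₀.comp (Units.map eu'.toMonoidHom), α, δ₁.comp (pull e.inv), ?_, ?_, ?_⟩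
  · rw [hα]
    ext x
    constructor
    · rintro ⟨w, rfl⟩
      obtain ⟨v, rfl⟩ := hsurj w
      exact ⟨v, rfl⟩
    · rintro ⟨v, rfl⟩
      exact ⟨_, rfl⟩
  · rw [← hp]
    ext c
    rw [MonoidHom.mem_ker, MonoidHom.mem_ker, hfac, ← map_one (pull e.hom), hinj.eq_iff]
  · ext b
    rw [MonoidHom.mem_ker, MonoidHom.mem_range, MonoidHom.comp_apply, ← MonoidHom.mem_ker, h₁]
    constructor
    · rintro ⟨c, hc⟩
      exact ⟨c, by rw [hfac, hc, ← pull_comp, e.hom_inv_id, pull_id]⟩
    · rintro ⟨c, rfl⟩
      exact ⟨c, by rw [hfac, ← pull_comp e.inv, e.inv_hom_id, pull_id]⟩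

/-- Global functions on a proper scheme over a Noetherian affine base form a finite algebra. -/
theorem finite_appTop {Z W : Scheme.{u}} (g : Z ⟶ W) [IsProper g] [IsLocallyNoetherian W] [IsAffine W] :
    g.appTop.hom.Finite := by
  haveI : IsLocallyNoetherian Z := LocallyOfFiniteType.isLocallyNoetherian g
  haveI : QuasiCompact g := inferInstance
  letI : Algebra Γ(W, ⊤) Γ(Z, ⊤) := g.appTop.hom.toAlgebra
  have hO : Coh.IsCoh (Coh.structureModule Z) :=
    CurveLib.isCoh_of_isInvertible (PicLoc.isInvertible_structureModule Z)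
  have h := QCohLib.finite_sections_of_isCoh (RpushLib.isCoh_push g hO) (isAffineOpen_top W)
  exact RingHom.finite_algebraMap.2 h

variable {X S : Scheme.{u}} {f : X ⟶ S} {B : Type u} [CommRing B] (J : Ideal B)

/-- The family over the closed subscheme of the base. -/
abbrev thick (β : Spec (CommRingCat.of B) ⟶ S) :
    AbDual.ovr (Over.mk β) (Spec.map (CommRingCat.ofHom (Ideal.Quotient.mk J))) ⟶ Over.mk β :=
  AbDual.ovrHom (Over.mk β) (Spec.map (CommRingCat.ofHom (Ideal.Quotient.mk J)))

theorem isClosedImmersion_XTmap_thick (β : Spec (CommRingCat.of B) ⟶ S) :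
    IsClosedImmersion (PicF.XTmap f (thick J β)) :=
  MorphismProperty.of_isPullback (P := @IsClosedImmersion) (InvDescLib.isPullback_map (thick J β)).flip
    (IsClosedImmersion.spec_of_surjective _ Ideal.Quotient.mk_surjective)

theorem ker_XTmap_thick_sq (hJ : J * J = ⊥) (β : Spec (CommRingCat.of B) ⟶ S) :
    (PicF.XTmap f (thick J β)).ker * (PicF.XTmap f (thick J β)).ker = ⊥ :=
  (ConormalLib.isFirstOrderThickening_of_isPullback (InvDescLib.isPullback_map (thick J β)).flip
    (ConormalLib.isFirstOrderThickening_spec B J (by rw [pow_two, hJ]))).2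

/-- An integer invertible on the base is invertible on the family. -/
theorem isUnit_natCast_XT {n : ℕ} (hn : IsUnit (n : B)) {T : Over S} (r : T.left ⟶ Spec (CommRingCat.of B)) :
    IsUnit (n : Γ(PicF.XT f T, ⊤)) := by
  have := hn.map (((PicF.XTproj f T ≫ r).appTop.hom.comp (Scheme.ΓSpecIso (CommRingCat.of B)).inv.hom))
  simpa using this

end Groth.Agent.PicInf
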