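import Groth.Agent.PicInfLib.SpecialTriv
import Groth.Agent.PicInfLib.Points
import Groth.Agent.PicSchLib.PicLFT
import Groth.Agent.S11107
import Groth.Agent.ASp.GeomRedEt
import Groth.Agent.RegLocal.UFD
import Groth.Agent.FormalAmpleLib.Kernel
import Groth.Agent.GeomRedPtLib.Basic
import Groth.Agent.InvExt.Main
import Groth.Agent.DVRCrit.Scheme
import Groth.Agent.GenIrredLib.DVRCount
import Groth.Agent.PrincBundLib.QuasiSection

/-!
# The valuative criterion for the Picard scheme of a smooth morphism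
-/

set_option autoImplicit false
set_option backward.isDefEq.respectTransparency false
set_option backward.isDefEq.respectTransparency.types false
set_option linter.style.haveILetI false

universe u

open CategoryTheory CategoryTheory.Limits AlgebraicGeometry TopologicalSpace IsLocalRing
open Groth.Agent.PicLib Groth.Agent.ParaFLib

noncomputable section

namespace Groth.Agent.PicInf

section DVR

variable {C : Type u} [CommRing C] [IsDomain C] [IsDiscreteValuationRing C]

theorem isLocalizationAway_of_irreducible (L : Type u) [Field L] [Algebra C L] [IsFractionRing C L] {ϖ : C}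
    (hϖ : Irreducible ϖ) : IsLocalization.Away ϖ L := by
  refine (IsLocalization.iff_of_le_of_exists_dvd (Submonoid.powers ϖ) (nonZeroDivisors C) ?_ ?_).2 inferInstance
  · rintro _ ⟨n, rfl⟩
    exact mem_nonZeroDivisors_of_ne_zero (pow_ne_zero n hϖ.ne_zero)
  · intro c hc
    obtain ⟨n, v, rfl⟩ := IsDiscreteValuationRing.eq_unit_mul_pow_irreducible (nonZeroDivisors.ne_zero hc) hϖ
    exact ⟨ϖ ^ n, ⟨n, rfl⟩, Units.mul_left_dvd.2 dvd_rfl⟩

theorem range_spec_fraction (L : Type u) [Field L] [Algebra C L] [IsFractionRing C L] {ϖ : C} (hϖ : Irreducible ϖ) :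
    Set.range (Spec.map (CommRingCat.ofHom (algebraMap C L))) = ((PrimeSpectrum.basicOpen ϖ : Opens (PrimeSpectrum C)) : Set (PrimeSpectrum C)) := by
  haveI := isLocalizationAway_of_irreducible L hϖ
  exact PrimeSpectrum.localization_away_comap_range L ϖ

variable {Y : Scheme.{u}} (p : Y ⟶ Spec (CommRingCat.of C))

/-- The function on `Y` given by an element of the base. -/
abbrev fn (c : C) : Γ(Y, (⊤ : Y.Opens)) := p.appTop ((Scheme.ΓSpecIso (CommRingCat.of C)).inv c)

theorem germ_fn (y : Y) (c : C) :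
    Y.presheaf.germ ⊤ y trivial (fn p c) = (FormalAmple.baseStalk p y).hom c := rfl

theorem basicOpen_fn (c : C) : Y.basicOpen (fn p c) = p ⁻¹ᵁ (PrimeSpectrum.basicOpen c : (Spec (CommRingCat.of C)).Opens) := by
  rw [fn, ← Scheme.preimage_basicOpen_top, basicOpen_eq_of_affine', ← CommRingCat.comp_apply, Iso.inv_hom_id]
  rfl

theorem facts_of_notMem [Smooth p] {ϖ : C} (hϖ : Irreducible ϖ) (y : Y) (hy : y ∉ Y.basicOpen (fn p ϖ)) :
    IsLeftRegular (Y.presheaf.germ ⊤ y trivial (fn p ϖ)) ∧
      (Ideal.span {Y.presheaf.germ ⊤ y trivial (fn p ϖ)}).IsPrime ∧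
      ∃ _ : IsDomain (Y.presheaf.stalk y), UniqueFactorizationMonoid (Y.presheaf.stalk y) := by
  haveI := S11107.isRegularLocalRing_stalk p y
  haveI hd : IsDomain (Y.presheaf.stalk y) := RegLocal.isDomain _
  refine ⟨?_, ?_, hd, RegLocal.ufd _⟩
  · rw [germ_fn]
    haveI := GeomRedPtLib.flat_fromSpecStalk' (X := Y) y
    have h : Flat (Spec.map (FormalAmple.baseStalk p y)) := by
      rw [← FormalAmple.fromSpecStalk_comp]
      infer_instance
    rw [HasRingHomProperty.Spec_iff (P := @Flat)] at h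
    algebraize [(FormalAmple.baseStalk p y).hom]
    exact fun r r' hr => (Module.Flat.isSMulRegular_of_nonZeroDivisors (M := Y.presheaf.stalk y)
      (mem_nonZeroDivisors_of_ne_zero hϖ.ne_zero)) (show ϖ • r = ϖ • r' by rw [Algebra.smul_def, Algebra.smul_def]; exact hr)
  · have hy' : ϖ ∈ (p y).asIdeal := by
      rw [basicOpen_fn] at hy
      exact not_not.1 hy
    have hcl : p y = closedPoint C := PrimeSpectrum.ext (IsLocalRing.eq_maximalIdeal
      ((p y).isPrime.isMaximal fun h => hϖ.ne_zero (by rw [h] at hy'; exact hy')))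
    let q := Spec.map (CommRingCat.ofHom (residue C))
    obtain ⟨z, rfl⟩ : y ∈ Set.range (pullback.fst p q) := by
      rw [Scheme.Pullback.range_fst]
      exact ⟨closedPoint (ResidueField C), (IsLocalRing.comap_closedPoint (residue C)).trans hcl.symm⟩
    haveI : Smooth (pullback.snd p q) := MorphismProperty.pullback_snd p q ‹Smooth p›
    haveI := ASp.isRegularLocalRing_stalk_of_smooth_field (pullback.snd p q) z
    haveI : IsDomain ((pullback p q).presheaf.stalk z) := RegLocal.isDomain _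
    have hk := FormalAmple.ker_stalkMap_of_isPullback (IsPullback.of_hasPullback p q)
      (show Function.Surjective (CommRingCat.ofHom (residue C)) from residue_surjective) z
    rw [show RingHom.ker (CommRingCat.ofHom (residue C)).hom = Ideal.span {ϖ} from
      (IsLocalRing.ker_residue (R := C)).trans hϖ.maximalIdeal_eq, Ideal.map_span, Set.image_singleton] at hk
    rw [germ_fn, ← hk]
    exact RingHom.ker_isPrime _

variable [Smooth p] {ϖ : C} (hϖ : Irreducible ϖ) {U : Scheme.{u}} (i : U ⟶ Y) [IsOpenImmersion i]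
  (hi : Set.range i = ↑(Y.basicOpen (fn p ϖ)))

include hϖ hi

/-- A class trivial on the generic fibre is trivial on the special one. -/
theorem pull_eq_one_special (a : Pic Y) (h : pull i a = 1) {Z : Scheme.{u}} (g : Z ⟶ Y)
    (hg : g.appTop (fn p ϖ) = 0) : pull g a = 1 := by
  let D := Y.basicOpen (fn p ϖ)
  let e : (D : Scheme.{u}) ≅ U := IsOpenImmersion.isoOfRangeEq D.ι i (by rw [Scheme.Opens.range_ι, hi])
  have hD : pull D.ι a = 1 := by
    rw [← IsOpenImmersion.isoOfRangeEq_hom_fac D.ι i (by rw [Scheme.Opens.range_ι, hi]), pull_comp, h, map_one]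
  obtain ⟨L, hL, rfl⟩ := exists_cls a
  rw [pull_cls, cls_eq_one] at hD
  obtain ⟨φ⟩ := hD
  obtain ⟨s, hs⟩ := exists_gen_of_iso ((Scheme.Modules.restrictFunctorIsoPullback D.ι).app L ≪≫ φ)
  obtain ⟨s', hs'⟩ := exists_gen_of_eq D.ι_image_top ⟨s, hs⟩
  rw [pull_cls, cls_eq_one]
  exact triv_pullback_of_gen_basicOpen (fn p ϖ) (fun y hy => (facts_of_notMem p hϖ y hy).1)
    (fun y hy => (facts_of_notMem p hϖ y hy).2.1) hL hs' g hg

/-- Classes on the generic fibre extend. -/
theorem surjective_pull_generic : Function.Surjective (pull i) := by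
  haveI : IsLocallyNoetherian Y := LocallyOfFiniteType.isLocallyNoetherian p
  intro c
  let D := Y.basicOpen (fn p ϖ)
  have hr : Set.range D.ι = Set.range i := by rw [Scheme.Opens.range_ι, hi]
  let e : (D : Scheme.{u}) ≅ U := IsOpenImmersion.isoOfRangeEq D.ι i hr
  obtain ⟨M, hM, hMc⟩ := exists_cls (pull e.hom c)
  obtain ⟨L, hL, ⟨φ⟩⟩ := InvExt.exists_extension_invertible M hM
    fun y hy => (facts_of_notMem p hϖ y hy).2.2
  refine ⟨cls hL, ?_⟩
  have h1 : pull D.ι (cls hL) = pull e.hom c := by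
    rw [← hMc, pull_cls, cls_eq_cls]
    exact ⟨((Scheme.Modules.restrictFunctorIsoPullback D.ι).app L).symm ≪≫ φ⟩
  rw [← IsOpenImmersion.isoOfRangeEq_hom_fac D.ι i hr, pull_comp] at h1
  have h2 := congrArg (pull e.inv) h1
  have key : ∀ t, pull e.inv (pull e.hom t) = t := fun t => by rw [← pull_comp, e.inv_hom_id, pull_id]
  rwa [key, key] at h2

end DVR

section Spec

variable {A : Type u} [CommRing A] [IsLocalRing A] {L : Type u} [Field L] [Algebra A L]
  {X : Scheme.{u}}

/-- The spectrum of a local ring lands in a neighbourhood of the image of the closed point. -/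
theorem range_subset_of_closedPoint (g : Spec (CommRingCat.of A) ⟶ X) {V : X.Opens} (h : g (closedPoint A) ∈ V) :
    Set.range g ⊆ V := by
  rintro _ ⟨x, rfl⟩
  exact ((IsLocalRing.specializes_closedPoint x).map g.continuous).mem_open V.isOpen h

/-- Two maps from a local domain agreeing at the generic point and at the closed point agree. -/
theorem hom_ext_of_closedPoint (hinj : Function.Injective (algebraMap A L)) {g₁ g₂ : Spec (CommRingCat.of A) ⟶ X}
    (h : g₁ (closedPoint A) = g₂ (closedPoint A))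
    (h' : Spec.map (CommRingCat.ofHom (algebraMap A L)) ≫ g₁ = Spec.map (CommRingCat.ofHom (algebraMap A L)) ≫ g₂) :
    g₁ = g₂ := by
  obtain ⟨V, hV, hxV, -⟩ := exists_isAffineOpen_mem_and_subset (X := X) (x := g₁ (closedPoint A)) (U := ⊤) trivial
  have h₁ : Set.range g₁ ⊆ Set.range hV.fromSpec := by
    rw [hV.range_fromSpec]
    exact range_subset_of_closedPoint g₁ hxV
  have h₂ : Set.range g₂ ⊆ Set.range hV.fromSpec := by
    rw [hV.range_fromSpec]
    exact range_subset_of_closedPoint g₂ (h ▸ hxV)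
  obtain ⟨φ₁, hφ₁⟩ := Spec.map_surjective (IsOpenImmersion.lift hV.fromSpec g₁ h₁)
  obtain ⟨φ₂, hφ₂⟩ := Spec.map_surjective (IsOpenImmersion.lift hV.fromSpec g₂ h₂)
  have e : Spec.map (φ₁ ≫ CommRingCat.ofHom (algebraMap A L)) = Spec.map (φ₂ ≫ CommRingCat.ofHom (algebraMap A L)) := by
    rw [← cancel_mono hV.fromSpec, Spec.map_comp, Spec.map_comp, hφ₁, hφ₂, Category.assoc, Category.assoc,
      IsOpenImmersion.lift_fac, IsOpenImmersion.lift_fac, h']
  have e' : φ₁ = φ₂ := CommRingCat.hom_ext (RingHom.ext fun r =>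
    hinj (RingHom.congr_fun (congrArg CommRingCat.Hom.hom (Spec.map_injective e)) r))
  rw [← IsOpenImmersion.lift_fac hV.fromSpec g₁ h₁, ← IsOpenImmersion.lift_fac hV.fromSpec g₂ h₂, ← hφ₁, ← hφ₂, e']

end Spec

section Descend

variable {A C K L : Type u} [CommRing A] [CommRing C] [IsLocalRing C] [Field K] [Field L]
  {X : Scheme.{u}}

/-- A point with values in a dominating ring whose generic point is rational comes from the small ring. -/
theorem exists_descend (iK : A →+* K) (iC : C →+* L) (θ : K →+* L) (φ : A →+* C) (hφ : iC.comp φ = θ.comp iK)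
    (hiC : Function.Injective iC) (hiK : Function.Injective iK)
    (hmem : ∀ (k : K) (c : C), θ k = iC c → k ∈ iK.range)
    (x : Spec (CommRingCat.of K) ⟶ X) (z : Spec (CommRingCat.of C) ⟶ X)
    (h : Spec.map (CommRingCat.ofHom iC) ≫ z = Spec.map (CommRingCat.ofHom θ) ≫ x) :
    ∃ l : Spec (CommRingCat.of A) ⟶ X, Spec.map (CommRingCat.ofHom iK) ≫ l = x ∧
      Spec.map (CommRingCat.ofHom φ) ≫ l = z := by
  obtain ⟨V, hV, hzV, -⟩ := exists_isAffineOpen_mem_and_subset (X := X) (x := z (closedPoint C)) (U := ⊤) trivial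
  have hz : Set.range z ⊆ Set.range hV.fromSpec := by
    rw [hV.range_fromSpec]
    exact range_subset_of_closedPoint z hzV
  have hx : Set.range x ⊆ Set.range hV.fromSpec := by
    rw [hV.range_fromSpec]
    rintro _ ⟨w, rfl⟩
    let w' : Spec (CommRingCat.of L) := closedPoint L
    haveI : Subsingleton (Spec (CommRingCat.of K)) := inferInstanceAs (Subsingleton (PrimeSpectrum K))
    rw [Subsingleton.elim w (Spec.map (CommRingCat.ofHom θ) w'), ← Scheme.Hom.comp_apply, ← h, Scheme.Hom.comp_apply]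
    exact range_subset_of_closedPoint z hzV ⟨_, rfl⟩
  obtain ⟨ζ, hζ⟩ := Spec.map_surjective (IsOpenImmersion.lift hV.fromSpec z hz)
  obtain ⟨ξ, hξ⟩ := Spec.map_surjective (IsOpenImmersion.lift hV.fromSpec x hx)
  have e : Spec.map (ζ ≫ CommRingCat.ofHom iC) = Spec.map (ξ ≫ CommRingCat.ofHom θ) := by
    rw [← cancel_mono hV.fromSpec, Spec.map_comp, Spec.map_comp, hζ, hξ, Category.assoc, Category.assoc,
      IsOpenImmersion.lift_fac, IsOpenImmersion.lift_fac, h]
  have e' : iC.comp ζ.hom = θ.comp ξ.hom := congrArg CommRingCat.Hom.hom (Spec.map_injective e)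
  have hr : ∀ r, ξ.hom r ∈ iK.range := fun r => hmem _ (ζ.hom r) (RingHom.congr_fun e' r).symm
  let eA : A ≃+* iK.range := RingEquiv.ofBijective iK.rangeRestrict
    ⟨fun a b hab => hiK (congrArg Subtype.val hab), iK.rangeRestrict_surjective⟩
  let μ : Γ(X, V) →+* A := eA.symm.toRingHom.comp (ξ.hom.codRestrict iK.range hr)
  have hμ : iK.comp μ = ξ.hom := RingHom.ext fun r => congrArg Subtype.val (eA.apply_symm_apply ⟨ξ.hom r, hr r⟩)
  refine ⟨Spec.map (CommRingCat.ofHom μ) ≫ hV.fromSpec, ?_, ?_⟩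
  · rw [← Spec.map_comp_assoc, show CommRingCat.ofHom μ ≫ CommRingCat.ofHom iK = ξ from CommRingCat.hom_ext hμ, hξ,
      IsOpenImmersion.lift_fac]
  · have hμ' : φ.comp μ = ζ.hom := RingHom.ext fun r => hiC (by
      have h1 := RingHom.congr_fun hφ (μ r)
      have h2 := RingHom.congr_fun hμ r
      have h3 := RingHom.congr_fun e' r
      simp only [RingHom.comp_apply] at h1 h2 h3 ⊢
      rw [h1, h2, h3])
    rw [← Spec.map_comp_assoc, show CommRingCat.ofHom μ ≫ CommRingCat.ofHom φ = ζ from CommRingCat.hom_ext hμ', hζ,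
      IsOpenImmersion.lift_fac]

end Descend

variable {X S : Scheme.{u}} {f : X ⟶ S} [Smooth f] {P : Over S}
  {φ : ∀ T : Over S, PicF.Cl (PicF.XT f T) → (T ⟶ P)}

section Fibres

variable {C L : Type u} [CommRing C] [IsDomain C] [IsDiscreteValuationRing C] [Field L] [Algebra C L]
  [IsFractionRing C L] (β : Spec (CommRingCat.of C) ⟶ S)

/-- The generic fibre. -/
abbrev genHom : (Over.mk (Spec.map (CommRingCat.ofHom (algebraMap C L)) ≫ β) : Over S) ⟶ Over.mk β :=
  Over.homMk (Spec.map (CommRingCat.ofHom (algebraMap C L))) rfl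

/-- The special fibre. -/
abbrev resHom : (Over.mk (Spec.map (CommRingCat.ofHom (residue C)) ≫ β) : Over S) ⟶ Over.mk β :=
  Over.homMk (Spec.map (CommRingCat.ofHom (residue C))) rfl

instance : Smooth (PicF.XTproj f (Over.mk β)) := MorphismProperty.pullback_snd f _ ‹Smooth f›

theorem isOpenImmersion_gen : IsOpenImmersion (PicF.XTmap f (genHom (L := L) β)) := by
  obtain ⟨ϖ, hϖ⟩ := IsDiscreteValuationRing.exists_irreducible C
  haveI := isLocalizationAway_of_irreducible L hϖ
  exact MorphismProperty.of_isPullback (P := @IsOpenImmersion) (InvDescLib.isPullback_map (genHom (L := L) β)).flip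
    (IsOpenImmersion.of_isLocalization ϖ)

theorem range_gen {ϖ : C} (hϖ : Irreducible ϖ) :
    Set.range (PicF.XTmap f (genHom (L := L) β)) =
      ↑((PicF.XT f (Over.mk β)).basicOpen (fn (PicF.XTproj f (Over.mk β)) ϖ)) := by
  have h := InvDescLib.isPullback_map (f := f) (genHom (L := L) β)
  rw [basicOpen_fn, show PicF.XTmap f (genHom (L := L) β) = h.isoPullback.hom ≫ pullback.fst _ _ from
    h.isoPullback_hom_fst.symm, Scheme.Hom.comp_base, TopCat.coe_comp,
    h.isoPullback.hom.surjective.range_comp, Scheme.Pullback.range_fst]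
  exact congrArg ((PicF.XTproj f (Over.mk β)) ⁻¹' ·) (range_spec_fraction L hϖ)

theorem pull_res_eq {a b : Pic (PicF.XT f (Over.mk β))}
    (h : pull (PicF.XTmap f (genHom (L := L) β)) a = pull (PicF.XTmap f (genHom (L := L) β)) b) :
    pull (PicF.XTmap f (resHom β)) a = pull (PicF.XTmap f (resHom β)) b := by
  obtain ⟨ϖ, hϖ⟩ := IsDiscreteValuationRing.exists_irreducible C
  haveI := isOpenImmersion_gen (f := f) (L := L) β
  rw [← div_eq_one, ← map_div] at h ⊢
  refine pull_eq_one_special (PicF.XTproj f (Over.mk β)) hϖ _ (range_gen β hϖ) _ h _ ?_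
  have hw := congrArg (fun m => m.appTop ((Scheme.ΓSpecIso (CommRingCat.of C)).inv ϖ))
    (InvDescLib.isPullback_map (f := f) (resHom β)).w
  simp only [Scheme.Hom.comp_appTop, CommRingCat.comp_apply] at hw
  refine hw.trans ?_
  show (PicF.XTproj f (Over.mk (Spec.map (CommRingCat.ofHom (residue C)) ≫ β))).appTop ((Spec.map (CommRingCat.ofHom (residue C))).appTop
    ((Scheme.ΓSpecIso (CommRingCat.of C)).inv ϖ)) = 0
  have h0 : (Spec.map (CommRingCat.ofHom (residue C))).appTop ((Scheme.ΓSpecIso (CommRingCat.of C)).inv ϖ) =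
      (Scheme.ΓSpecIso (CommRingCat.of (ResidueField C))).inv (residue C ϖ) :=
    (ConcreteCategory.congr_hom (Scheme.ΓSpecIso_inv_naturality (CommRingCat.ofHom (residue C))) ϖ).symm
  rw [h0, show residue C ϖ = 0 from (residue_eq_zero_iff ϖ).2
    (hϖ.maximalIdeal_eq ▸ Ideal.mem_span_singleton_self ϖ), map_zero, map_zero]

end Fibres

/-- A class over a finite extension of the field. -/
theorem exists_finite_field_of_covers {K : Type u} [Field K] (β : Spec (CommRingCat.of K) ⟶ S) {ι : Type u}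
    {U : ι → (Over.mk β).left.Etale} (hU : EtCoh.Covers U) :
    ∃ (L : Type u) (_ : Field L) (_ : Algebra K L) (_ : FiniteDimensional K L) (i : ι)
      (k : (Over.mk (Spec.map (CommRingCat.ofHom (algebraMap K L)) ≫ β) : Over S) ⟶
        PicRel.ovr (Over.mk β) (U i)),
      k ≫ PicRel.ovrHom (Over.mk β) (U i) = Over.homMk (Spec.map (CommRingCat.ofHom (algebraMap K L))) rfl := by
  obtain ⟨i, x, -⟩ := hU (closedPoint K)
  haveI : Etale ((U i).hom : (U i).left ⟶ Spec (CommRingCat.of K)) := (U i).prop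
  obtain ⟨L, _, _, hfin, z, hz⟩ :=
    @PrincBundLib.exists_finite_point K _ (U i).left ((U i).hom : (U i).left ⟶ Spec (CommRingCat.of K))
      inferInstance ⟨x⟩
  exact ⟨L, inferInstance, inferInstance, hfin, i, Over.homMk z (by
    show z ≫ (U i).hom ≫ β = Spec.map (CommRingCat.ofHom (algebraMap K L)) ≫ β
    rw [reassoc_of% hz]), Over.OverMorphism.ext hz⟩

/-- A discrete valuation ring over a given one with fraction field a given finite extension. -/
theorem exists_dvr_over (A : Type u) [CommRing A] [IsDomain A] [IsDiscreteValuationRing A] (K L : Type u) [Field K]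
    [Algebra A K] [IsFractionRing A K] [Field L] [Algebra K L] [FiniteDimensional K L] :
    ∃ (V : ValuationSubring L) (_ : IsDiscreteValuationRing V) (ψ : A →+* V),
      V.subtype.comp ψ = (algebraMap K L).comp (algebraMap A K) ∧ IsLocalHom ψ ∧
        ∀ (k : K) (c : V), algebraMap K L k = (c : L) → k ∈ (algebraMap A K).range := by
  letI : Algebra A L := ((algebraMap K L).comp (algebraMap A K)).toAlgebra
  haveI : IsScalarTower A K L := .of_algebraMap_eq' rfl
  obtain ⟨V, hV, hmem, hnu⟩ := DVRCrit.exists_dvr_dominating_fg (L := L) A (IsDiscreteValuationRing.not_isField A) K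
    (IntermediateField.fg_top K L)
  let ψ : A →+* V := (algebraMap A L).codRestrict V.toSubring hmem
  haveI hl : IsLocalHom ψ := ⟨fun a ha => by
    by_contra hna
    have h1 : ψ a ∈ maximalIdeal V :=
      (ValuationSubring.coe_mem_nonunits_iff).1 (hnu a ((IsLocalRing.mem_maximalIdeal a).2 hna))
    exact (IsLocalRing.mem_maximalIdeal _).1 h1 ha⟩
  refine ⟨V, hV, ψ, rfl, hl, fun k c hk => ?_⟩
  rcases ValuationRing.isInteger_or_isInteger A k with ⟨a, ha⟩ | ⟨a, ha⟩
  · exact ⟨a, ha⟩
  · by_cases hk0 : k = 0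
    · exact ⟨0, by rw [map_zero, hk0]⟩
    have hu : IsUnit (ψ a) := IsUnit.of_mul_eq_one c (Subtype.ext (by
      show algebraMap K L (algebraMap A K a) * (c : L) = 1
      rw [← hk, ha, ← map_mul, inv_mul_cancel₀ hk0, map_one]))
    obtain ⟨v, rfl⟩ := isUnit_of_map_unit ψ a hu
    refine ⟨↑v⁻¹, ?_⟩
    rw [← inv_inv k, ← ha]
    exact eq_inv_of_mul_eq_one_left (by rw [← map_mul, Units.inv_mul, map_one])

/-- The uniqueness half of the valuative criterion. -/
theorem point_unique (hP : PicRel.IsRelPic f P φ) (A : Type u) [CommRing A] [IsDomain A] [IsDiscreteValuationRing A]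
    (g₁ g₂ : Spec (CommRingCat.of A) ⟶ P.left) (h : g₁ ≫ P.hom = g₂ ≫ P.hom)
    (h' : Spec.map (CommRingCat.ofHom (algebraMap A (FractionRing A))) ≫ g₁ =
      Spec.map (CommRingCat.ofHom (algebraMap A (FractionRing A))) ≫ g₂) : g₁ = g₂ := by
  obtain ⟨B, _, _, _, _, _, σ, hσl, hσi⟩ := GenIrredLib.exists_dvr_algClosed A
  haveI := hσl
  haveI : HenselianLocalRing B := Hensel.henselianRing_maximalIdeal_iff.1 inferInstance
  refine hom_ext_of_closedPoint (IsFractionRing.injective A (FractionRing A)) ?_ h'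
  let s := Spec.map (CommRingCat.ofHom σ)
  let θ : FractionRing A →+* FractionRing B := IsFractionRing.map hσi
  have hθ : (algebraMap B (FractionRing B)).comp σ = θ.comp (algebraMap A (FractionRing A)) :=
    RingHom.ext fun a => by simp [θ, IsFractionRing.map]
  have hgen : Spec.map (CommRingCat.ofHom (algebraMap B (FractionRing B))) ≫ s ≫ g₁ =
      Spec.map (CommRingCat.ofHom (algebraMap B (FractionRing B))) ≫ s ≫ g₂ := by
    simp only [s, ← Spec.map_comp_assoc, ← CommRingCat.ofHom_comp, hθ]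
    rw [CommRingCat.ofHom_comp, Spec.map_comp_assoc, Spec.map_comp_assoc, h']
  let β := s ≫ g₁ ≫ P.hom
  let h₁ : Over.mk β ⟶ P := Over.homMk (s ≫ g₁) (Category.assoc _ _ _)
  let h₂ : Over.mk β ⟶ P := Over.homMk (s ≫ g₂) (by
    show (s ≫ g₂) ≫ P.hom = β
    rw [Category.assoc, ← h])
  obtain ⟨a₁, ha₁⟩ := exists_pic_of_point hP β h₁
  obtain ⟨a₂, ha₂⟩ := exists_pic_of_point hP β h₂
  let e : (Over.mk (Spec.map (CommRingCat.ofHom (algebraMap B (FractionRing B))) ≫ β) : Over S) ⟶ Over.mk β :=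
    genHom (L := FractionRing B) β
  have he : φ _ (AbDualLib.toCl (pull (PicF.XTmap f e) a₁)) = φ _ (AbDualLib.toCl (pull (PicF.XTmap f e) a₂)) := by
    rw [phi_pull hP, phi_pull hP, ha₁, ha₂]
    exact Over.OverMorphism.ext hgen
  obtain ⟨ι, U, hU, hUe⟩ := hP.locallyInjective _ _ _ (InvDescLib.isInvertibleCl_toCl _)
    (InvDescLib.isInvertibleCl_toCl _) he
  obtain ⟨L, _, _, _, i, k, hk⟩ := exists_finite_field_of_covers (S := S) _ hU
  have hL := AbDualLib.toCl_injective
    (((AbDualLib.toCl_pull _ _).trans (hUe i)).trans (AbDualLib.toCl_pull _ _).symm)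
  have hL' := congrArg (pull (PicF.XTmap f k)) hL
  rw [InvDescLib.pull_XTmap_XTmap _ k hk, InvDescLib.pull_XTmap_XTmap _ k hk] at hL'
  obtain ⟨V, hV, ψ, hψ, hψl, -⟩ := exists_dvr_over B (FractionRing B) L
  haveI := hV
  haveI := hψl
  haveI : IsFractionRing V L := inferInstance
  let r := Spec.map (CommRingCat.ofHom ψ)
  let t : (Over.mk (r ≫ β) : Over S) ⟶ Over.mk β := Over.homMk r rfl
  have hsq : Spec.map (CommRingCat.ofHom (algebraMap V L)) ≫ r =
      Spec.map (CommRingCat.ofHom (algebraMap (FractionRing B) L)) ≫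
        Spec.map (CommRingCat.ofHom (algebraMap B (FractionRing B))) := by
    simp only [r, ← Spec.map_comp, ← CommRingCat.ofHom_comp, ← hψ]
    rfl
  let w : (Over.mk (Spec.map (CommRingCat.ofHom (algebraMap V L)) ≫ r ≫ β) : Over S) ⟶
      Over.mk (Spec.map (CommRingCat.ofHom (algebraMap (FractionRing B) L)) ≫
        Spec.map (CommRingCat.ofHom (algebraMap B (FractionRing B))) ≫ β) :=
    Over.homMk (𝟙 _) (by
      show 𝟙 _ ≫ Spec.map _ ≫ Spec.map _ ≫ β = Spec.map _ ≫ r ≫ β
      rw [Category.id_comp, reassoc_of% hsq])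
  let q : (Over.mk (Spec.map (CommRingCat.ofHom (algebraMap (FractionRing B) L)) ≫
      Spec.map (CommRingCat.ofHom (algebraMap B (FractionRing B))) ≫ β) : Over S) ⟶
        Over.mk (Spec.map (CommRingCat.ofHom (algebraMap B (FractionRing B))) ≫ β) :=
    Over.homMk (Spec.map (CommRingCat.ofHom (algebraMap (FractionRing B) L))) rfl
  have hc : (w ≫ q) ≫ e = genHom (L := L) (r ≫ β) ≫ t := by
    apply Over.OverMorphism.ext
    simp only [w, q, e, t, genHom, Over.comp_left, Over.homMk_left, Category.assoc, Category.id_comp]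
    exact hsq.symm
  have hL'' := congrArg (pull (PicF.XTmap f w)) hL'
  rw [InvDescLib.pull_XTmap_XTmap q w (rfl : w ≫ q = w ≫ q), InvDescLib.pull_XTmap_XTmap q w (rfl : w ≫ q = w ≫ q),
    InvDescLib.pull_XTmap_XTmap e (w ≫ q) hc, InvDescLib.pull_XTmap_XTmap e (w ≫ q) hc,
    ← InvDescLib.pull_XTmap_XTmap t (genHom (L := L) (r ≫ β)) rfl a₁,
    ← InvDescLib.pull_XTmap_XTmap t (genHom (L := L) (r ≫ β)) rfl a₂] at hL''
  have hres := pull_res_eq (f := f) (r ≫ β) hL''
  have hpts := congrArg (fun a => φ _ (AbDualLib.toCl a)) hres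
  simp only [phi_pull hP, ha₁, ha₂] at hpts
  have hp := congrArg (fun m => m.left (closedPoint (ResidueField V))) hpts
  have hloc : ∀ g : Spec (CommRingCat.of A) ⟶ P.left, g (closedPoint A) =
      (Spec.map (CommRingCat.ofHom (residue V)) ≫ r ≫ s ≫ g) (closedPoint (ResidueField V)) := fun g => by
    simp only [r, s, Scheme.Hom.comp_apply]
    exact congrArg g ((congrArg _ ((congrArg _ (IsLocalRing.comap_closedPoint (residue V))).trans
      (IsLocalRing.comap_closedPoint ψ))).trans (IsLocalRing.comap_closedPoint σ)).symm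
  rw [hloc g₁, hloc g₂]
  exact hp

/-- The existence half of the valuative criterion. -/
theorem point_exists (hP : PicRel.IsRelPic f P φ) (A : Type u) [CommRing A] [IsDomain A] [IsDiscreteValuationRing A]
    (x : Spec (CommRingCat.of (FractionRing A)) ⟶ P.left) (y : Spec (CommRingCat.of A) ⟶ S)
    (h : x ≫ P.hom = Spec.map (CommRingCat.ofHom (algebraMap A (FractionRing A))) ≫ y) :
    ∃ l : Spec (CommRingCat.of A) ⟶ P.left, l ≫ P.hom = y ∧
      Spec.map (CommRingCat.ofHom (algebraMap A (FractionRing A))) ≫ l = x := by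
  let K := FractionRing A
  let β := x ≫ P.hom
  obtain ⟨ι, U, hU, hc⟩ := hP.locallySurjective (Over.mk β) (Over.homMk x rfl)
  obtain ⟨L, _, _, _, i, k, hk⟩ := exists_finite_field_of_covers β hU
  obtain ⟨c, hc₁, hc₂⟩ := hc i
  obtain ⟨a, rfl⟩ := InvDescLib.exists_toCl_eq hc₁
  obtain ⟨V, hV, ψ, hψ, hψl, hmem⟩ := exists_dvr_over A K L
  haveI := hV
  haveI := hψl
  haveI : IsFractionRing V L := inferInstance
  let r := Spec.map (CommRingCat.ofHom ψ)
  have hsq : Spec.map (CommRingCat.ofHom (algebraMap V L)) ≫ r =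
      Spec.map (CommRingCat.ofHom (algebraMap K L)) ≫ Spec.map (CommRingCat.ofHom (algebraMap A K)) := by
    simp only [r, ← Spec.map_comp, ← CommRingCat.ofHom_comp, ← hψ]
    rfl
  let w : (Over.mk (Spec.map (CommRingCat.ofHom (algebraMap V L)) ≫ r ≫ y) : Over S) ⟶
      Over.mk (Spec.map (CommRingCat.ofHom (algebraMap K L)) ≫ β) :=
    Over.homMk (𝟙 _) (by
      show 𝟙 _ ≫ Spec.map _ ≫ x ≫ P.hom = Spec.map _ ≫ r ≫ y
      rw [Category.id_comp, h, reassoc_of% hsq])
  obtain ⟨ϖ, hϖ⟩ := IsDiscreteValuationRing.exists_irreducible V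
  haveI := isOpenImmersion_gen (f := f) (L := L) (r ≫ y)
  obtain ⟨b, hb⟩ := surjective_pull_generic (PicF.XTproj f (Over.mk (r ≫ y))) hϖ
    (PicF.XTmap f (genHom (L := L) (r ≫ y))) (range_gen (r ≫ y) hϖ) (pull (PicF.XTmap f (w ≫ k)) a)
  let z := φ _ (AbDualLib.toCl b)
  have hz := congrArg (fun a => φ _ (AbDualLib.toCl a)) hb
  simp only [phi_pull hP, Category.assoc] at hz
  have hz' : Spec.map (CommRingCat.ofHom (algebraMap V L)) ≫ z.left =
      Spec.map (CommRingCat.ofHom (algebraMap K L)) ≫ x := by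
    rw [hc₂, reassoc_of% hk] at hz
    have := congrArg CommaMorphism.left hz
    simp only [Over.comp_left, w, Over.homMk_left, Category.id_comp] at this
    exact this
  obtain ⟨l, hl₁, hl₂⟩ := exists_descend (algebraMap A K) (algebraMap V L) (algebraMap K L) ψ hψ
    Subtype.val_injective (IsFractionRing.injective A K) (fun k c hkc => hmem k c hkc) x z.left hz'
  refine ⟨l, hom_ext_of_closedPoint (IsFractionRing.injective A K) ?_ ?_, hl₁⟩
  · have hcl : (r ≫ l ≫ P.hom) (closedPoint V) = (r ≫ y) (closedPoint V) := by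
      rw [reassoc_of% hl₂, Over.w z]
      rfl
    simp only [r, Scheme.Hom.comp_apply] at hcl ⊢
    rwa [show Spec.map (CommRingCat.ofHom ψ) (closedPoint V) = closedPoint A from IsLocalRing.comap_closedPoint ψ]
      at hcl
  · rw [reassoc_of% hl₁, h]

/-- The Picard scheme is separated. -/
theorem isSeparated_of_isRelPic [IsLocallyNoetherian S] [QuasiCompact f] [QuasiSeparated f]
    (hP : PicRel.IsRelPic f P φ) : IsSeparated P.hom := by
  haveI := PicSch.locallyOfFiniteType_of_isRelPic P φ hP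
  exact DVRCrit.isSeparated_of_dvr P.hom fun A _ _ _ g₁ g₂ h h' => point_unique hP A g₁ g₂ h h'

/-- Closed subschemes of finite type of the Picard scheme are proper. -/
theorem isProper_of_isClosedImmersion [IsLocallyNoetherian S] [QuasiCompact f] [QuasiSeparated f]
    (hP : PicRel.IsRelPic f P φ) {Z : Scheme.{u}} (i : Z ⟶ P.left) [IsClosedImmersion i]
    [LocallyOfFiniteType (i ≫ P.hom)] [QuasiCompact (i ≫ P.hom)] : IsProper (i ≫ P.hom) := by
  haveI := isSeparated_of_isRelPic hP
  refine DVRCrit.isProper_of_dvr (i ≫ P.hom) fun A _ _ _ x y h => ?_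
  obtain ⟨l, hl₁, hl₂⟩ := point_exists hP A (x ≫ i) y (by rw [Category.assoc]; exact h)
  obtain ⟨l', ⟨hl', hl''⟩, -⟩ := DVRCrit.existsUnique_lift i A x l hl₂.symm
  refine ⟨l', ⟨by rw [reassoc_of% hl', hl₁], hl''⟩, fun m hm => ?_⟩
  exact DVRCrit.ext_of_isSeparated (i ≫ P.hom) (by rw [hm.1, reassoc_of% hl', hl₁]) (hm.2.trans hl''.symm)

end Groth.Agent.PicInf
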