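import Groth.Agent.PicInfLib.SmoothH2

/-!
# Smoothness of the Picard scheme from the vanishing of the second cohomology
-/

set_option autoImplicit false
set_option backward.isDefEq.respectTransparency false
set_option backward.isDefEq.respectTransparency.types false
set_option linter.style.haveILetI false
set_option maxHeartbeats 1000000

universe u

open CategoryTheory CategoryTheory.Limits AlgebraicGeometry TopologicalSpace IsLocalRing
open Groth.Agent.PicLib

noncomputable section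

namespace Groth.Agent.PicInf

theorem isAlgClosed_residueField_quotient {B : Type u} [CommRing B] [IsLocalRing B] [IsAlgClosed (ResidueField B)]
    (J : Ideal B) [IsLocalRing (B ⧸ J)] : IsAlgClosed (ResidueField (B ⧸ J)) := by
  haveI : IsLocalHom (Ideal.Quotient.mk J) := IsLocalHom.of_surjective _ Ideal.Quotient.mk_surjective
  refine IsAlgClosed.of_ringEquiv (ResidueField B) _ (RingEquiv.ofBijective
    (ResidueField.map (Ideal.Quotient.mk J)) ⟨RingHom.injective _, fun y => ?_⟩)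
  obtain ⟨y, rfl⟩ := residue_surjective y
  obtain ⟨b, rfl⟩ := Ideal.Quotient.mk_surjective y
  exact ⟨residue B b, rfl⟩

/-- Lifts along principal small extensions give all lifts. -/
theorem hasGeomLifts_of_principal {X Y : Scheme.{u}} (f : X ⟶ Y) (x : X)
    (h : ∀ (B : Type u) [CommRing B] [IsLocalRing B] [IsArtinianRing B], IsAlgClosed (ResidueField B) →
      ∀ (ε : B), ε ≠ 0 → ε ∈ maximalIdeal B → (∀ c ∈ maximalIdeal B, c * ε = 0) →
        ∀ (α : Spec (CommRingCat.of (B ⧸ Ideal.span {ε})) ⟶ X) (β : Spec (CommRingCat.of B) ⟶ Y), (∀ t, α t = x) →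
        Spec.map (CommRingCat.ofHom (Ideal.Quotient.mk (Ideal.span {ε}))) ≫ β = α ≫ f →
        ∃ γ : Spec (CommRingCat.of B) ⟶ X,
          Spec.map (CommRingCat.ofHom (Ideal.Quotient.mk (Ideal.span {ε}))) ≫ γ = α ∧ γ ≫ f = β) :
    HasGeomLifts f x := by
  classical
  suffices H : ∀ (k : ℕ) (B : Type u) [CommRing B] [IsLocalRing B] [IsArtinianRing B], IsAlgClosed (ResidueField B) →
      ∀ (J : Ideal B), J ≤ maximalIdeal B → J * maximalIdeal B = ⊥ → (∃ s : Finset B, s.card ≤ k ∧ Ideal.span (s : Set B) = J) →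
      ∀ (α : Spec (CommRingCat.of (B ⧸ J)) ⟶ X)
      (β : Spec (CommRingCat.of B) ⟶ Y), (∀ t, α t = x) →
      Spec.map (CommRingCat.ofHom (Ideal.Quotient.mk J)) ≫ β = α ≫ f →
      ∃ γ : Spec (CommRingCat.of B) ⟶ X, Spec.map (CommRingCat.ofHom (Ideal.Quotient.mk J)) ≫ γ = α ∧ γ ≫ f = β by
    intro B _ _ _ hK J hle hmul
    obtain ⟨s, hs⟩ := IsNoetherian.noetherian J
    exact H s.card B hK J hle hmul ⟨s, le_rfl, hs⟩
  intro k
  induction k with
  | zero =>
    intro B _ _ _ _ J _ _ hs α β _ hc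
    obtain ⟨s, hs, rfl⟩ := hs
    obtain rfl : s = ∅ := Finset.card_eq_zero.1 (Nat.le_zero.1 hs)
    let φ := CommRingCat.ofHom (Ideal.Quotient.mk (Ideal.span ((∅ : Finset B) : Set B)))
    have : Function.Bijective φ.hom := ⟨by
      rw [injective_iff_map_eq_zero]
      intro a ha
      simpa [φ, Ideal.Quotient.eq_zero_iff_mem] using ha, Ideal.Quotient.mk_surjective⟩
    haveI : IsIso φ := (ConcreteCategory.isIso_iff_bijective φ).2 this
    exact ⟨inv (Spec.map φ) ≫ α, IsIso.hom_inv_id_assoc _ _, by rw [Category.assoc, ← hc, IsIso.inv_hom_id_assoc]⟩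
  | succ k ih =>
    intro B _ _ _ hK J hle hmul hs α β hα hc
    obtain ⟨s, hsk, hsJ⟩ := hs
    haveI := hK
    rcases Finset.eq_empty_or_nonempty s with rfl | ⟨ε, hεs⟩
    · exact ih B hK J hle hmul ⟨∅, Nat.zero_le _, hsJ⟩ α β hα hc
    by_cases hε0 : ε = 0
    · refine ih B hK J hle hmul ⟨s.erase ε, by have := Finset.card_erase_of_mem hεs; omega, ?_⟩ α β hα hc
      rw [Finset.coe_erase, hε0, Ideal.span_sdiff_singleton_zero, hsJ]
    let K : Ideal B := Ideal.span {ε}
    have hεJ : ε ∈ J := hsJ ▸ Ideal.subset_span hεs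
    have hKJ : K ≤ J := (Ideal.span_singleton_le_iff_mem _).2 hεJ
    haveI : Nontrivial (B ⧸ K) := Ideal.Quotient.nontrivial_iff.2
      (ne_top_of_le_ne_top (maximalIdeal.isMaximal B).ne_top (hKJ.trans hle))
    haveI : IsLocalRing (B ⧸ K) := .of_surjective' _ Ideal.Quotient.mk_surjective
    haveI : IsArtinianRing (B ⧸ K) := Ideal.Quotient.mk_surjective.isArtinianRing
    haveI : IsLocalHom (Ideal.Quotient.mk K) := IsLocalHom.of_surjective _ Ideal.Quotient.mk_surjective
    let J₁ : Ideal (B ⧸ K) := J.map (Ideal.Quotient.mk K)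
    have hmax : maximalIdeal (B ⧸ K) = (maximalIdeal B).map (Ideal.Quotient.mk K) :=
      le_antisymm (fun y hy => by
        obtain ⟨y, rfl⟩ := Ideal.Quotient.mk_surjective y
        exact Ideal.mem_map_of_mem _ ((mem_maximalIdeal y).2 fun hu => (mem_maximalIdeal _).1 hy (hu.map (Ideal.Quotient.mk K))))
        (Ideal.map_le_iff_le_comap.2 fun y hy => map_nonunit (Ideal.Quotient.mk K) y hy)
    let e : (B ⧸ K) ⧸ J₁ ≃+* B ⧸ J := DoubleQuot.quotQuotEquivQuotOfLE hKJ
    let eh : CommRingCat.of (B ⧸ J) ⟶ CommRingCat.of ((B ⧸ K) ⧸ J₁) := CommRingCat.ofHom e.symm.toRingHom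
    haveI : IsIso eh := (ConcreteCategory.isIso_iff_bijective eh).2 e.symm.bijective
    let qK := CommRingCat.ofHom (Ideal.Quotient.mk K)
    have hcomp : qK ≫ CommRingCat.ofHom (Ideal.Quotient.mk J₁) = CommRingCat.ofHom (Ideal.Quotient.mk J) ≫ eh := by
      ext z
      exact (DoubleQuot.quotQuotEquivQuotOfLE_symm_mk (I := K) (J := J) z hKJ).symm
    obtain ⟨γ₁, hγ₁, hγ₁'⟩ := ih (B ⧸ K) (isAlgClosed_residueField_quotient K) J₁
      (hmax ▸ Ideal.map_mono hle) (by rw [hmax, ← Ideal.map_mul, hmul, Ideal.map_bot]) ⟨(s.erase ε).image (Ideal.Quotient.mk K), by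
        have h1 := Finset.card_erase_of_mem hεs
        have h2 := Finset.card_image_le (s := s.erase ε) (f := Ideal.Quotient.mk K)
        omega, by
        refine le_antisymm (Ideal.span_le.2 ?_) (Ideal.map_le_iff_le_comap.2 (hsJ ▸ Ideal.span_le.2 ?_))
        · intro z hz
          obtain ⟨a, ha, rfl⟩ := Finset.mem_image.1 hz
          exact Ideal.mem_map_of_mem _ (hsJ ▸ Ideal.subset_span (Finset.mem_of_mem_erase ha))
        · intro a ha
          rw [SetLike.mem_coe, Ideal.mem_comap]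
          by_cases hae : a = ε
          · subst hae
            rw [show Ideal.Quotient.mk K a = 0 from Ideal.Quotient.eq_zero_iff_mem.2 (Ideal.subset_span rfl)]
            exact Submodule.zero_mem _
          · exact Ideal.subset_span (Finset.mem_coe.2 (Finset.mem_image.2 ⟨a, Finset.mem_erase.2 ⟨hae, ha⟩, rfl⟩))⟩
      (Spec.map eh ≫ α) (Spec.map qK ≫ β)
      (fun t => hα _) (by
        rw [← Category.assoc, ← Spec.map_comp, hcomp, Spec.map_comp, Category.assoc, hc, Category.assoc])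
    obtain ⟨γ, hγ, hγ'⟩ := h B hK ε hε0 (hle hεJ) (fun c hcm => by
        rw [mul_comm]
        exact (Submodule.mem_bot B).1 (hmul ▸ Ideal.mul_mem_mul hεJ hcm)) γ₁ β (fun t => by
        obtain rfl : t = closedPoint (B ⧸ K) :=
          PrimeSpectrum.ext (eq_maximalIdeal (IsArtinianRing.isMaximal_of_isPrime t.asIdeal))
        haveI : Nontrivial ((B ⧸ K) ⧸ J₁) := Ideal.Quotient.nontrivial_iff.2
          (ne_top_of_le_ne_top (maximalIdeal.isMaximal _).ne_top (hmax ▸ Ideal.map_mono hle))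
        obtain ⟨p⟩ : Nonempty (PrimeSpectrum ((B ⧸ K) ⧸ J₁)) := inferInstance
        have hp : Spec.map (CommRingCat.ofHom (Ideal.Quotient.mk J₁)) p = closedPoint (B ⧸ K) :=
          PrimeSpectrum.ext (eq_maximalIdeal (IsArtinianRing.isMaximal_of_isPrime _))
        rw [← hp, ← Scheme.Hom.comp_apply, hγ₁]
        exact hα _) hγ₁'.symm
    refine ⟨γ, ?_, hγ'⟩
    have h3 : Spec.map eh ≫ Spec.map (CommRingCat.ofHom (Ideal.Quotient.mk J)) ≫ γ = Spec.map eh ≫ α := by
      rw [← Category.assoc, ← Spec.map_comp, ← hcomp, Spec.map_comp, Category.assoc, hγ, hγ₁]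
    exact (cancel_epi (Spec.map eh)).1 h3

variable {X S : Scheme.{u}} [IsLocallyNoetherian S] {f : X ⟶ S} [IsProper f] [Flat f]

theorem hasGeomLifts_hom {P : Over S} {φ : ∀ T : Over S, PicF.Cl (PicF.XT f T) → (T ⟶ P)}
    (hP : PicRel.IsRelPic f P φ) {x : P.left}
    (hx : CohIII.fiberRank f (Coh.structureModule X) 2 (P.hom x) = 0) : HasGeomLifts P.hom x := by
  refine hasGeomLifts_of_principal P.hom x fun B _ _ _ hK ε hε hεm hm α β hα hc => ?_
  haveI := hK
  let J : Ideal B := Ideal.span {ε}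
  have hle : J ≤ maximalIdeal B := (Ideal.span_singleton_le_iff_mem _).2 hεm
  haveI : Nontrivial (B ⧸ J) := Ideal.Quotient.nontrivial_iff.2
    (ne_top_of_le_ne_top (maximalIdeal.isMaximal B).ne_top hle)
  haveI : IsLocalRing (B ⧸ J) := .of_surjective' _ Ideal.Quotient.mk_surjective
  haveI : IsArtinianRing (B ⧸ J) := Ideal.Quotient.mk_surjective.isArtinianRing
  haveI := henselianLocalRing_artinian (B ⧸ J)
  haveI := isAlgClosed_residueField_quotient J
  have hJJ : J * J = ⊥ := by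
    rw [Ideal.span_singleton_mul_span_singleton, hm ε hεm, Ideal.span_singleton_eq_bot.2 rfl]
  let q := Spec.map (CommRingCat.ofHom (Ideal.Quotient.mk J))
  let T₀ : Over S := Over.mk (q ≫ β)
  let T : Over S := Over.mk β
  let e : T₀ ⟶ T := thick J β
  let gα : T₀ ⟶ P := Over.homMk α hc.symm
  obtain ⟨a₀, ha₀⟩ := exists_pic_of_point hP (q ≫ β) gα
  haveI := isClosedImmersion_XTmap_thick (f := f) J β
  obtain ⟨δ₀, α', δ₁, hα', hp, h₁⟩ := exists_seq_of_closedImmersion (PicF.XTmap f e) (ker_XTmap_thick_sq J hJJ β)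
  have hb : ∀ t, CohIII.fiberRank f (Coh.structureModule X) 2 (β t) = 0 := fun t => by
    have ht : t = q (closedPoint (B ⧸ J)) :=
      PrimeSpectrum.ext ((eq_maximalIdeal (IsArtinianRing.isMaximal_of_isPrime t.asIdeal)).trans
        (eq_maximalIdeal (IsArtinianRing.isMaximal_of_isPrime (q (closedPoint (B ⧸ J))).asIdeal)).symm)
    rw [ht, ← Scheme.Hom.comp_apply, show q ≫ β = α ≫ P.hom from hc, Scheme.Hom.comp_apply, hα]
    exact hx
  haveI := subsingleton_HH_two_ideal (f := f) hε hm β hb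
  obtain ⟨c, hc'⟩ : a₀ ∈ (pull (PicF.XTmap f e)).range := h₁ ▸ (MonoidHom.mem_ker.2 (Subsingleton.elim _ _))
  let γ := φ T (AbDualLib.toCl c)
  refine ⟨γ.left, ?_, Over.w γ⟩
  have := phi_pull hP e c
  rw [hc', ha₀] at this
  exact (congrArg CommaMorphism.left this).symm

theorem exists_smooth_nhd_of_h2 (P : Over S) [LocallyOfFiniteType P.hom] (hP : PicRel.RepresentedBy f P) (s : S)
    (h2 : Subsingleton (Coh.HH (pullback f (S.fromSpecResidueField s)) (Coh.structureModule _) 2)) :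
    ∃ U : S.Opens, s ∈ U ∧ Smooth ((P.hom ⁻¹ᵁ U).ι ≫ P.hom) := by
  obtain ⟨φ, hφ⟩ := hP
  haveI : LocallyOfFinitePresentation f := S14008.lfp_of_lft f
  have hlf := CurveLib.isFinLocFree_of_isInvertible (PicLoc.isInvertible_structureModule X)
  obtain ⟨hq, hfp⟩ := PullbackMod.isQCoh_and_isFP_of_isFinLocFree _ hlf
  haveI := hq
  let U : S.Opens := ⟨{t | CohIII.fiberRank f (Coh.structureModule X) 2 t < 1},
    GenBCLib.isOpen_fiberRank_lt hfp (TildePerf.isFlatOver_of_isFinLocFree f hlf) 2 1⟩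
  refine ⟨U, ?_, ?_⟩
  · show CohIII.fiberRank f (Coh.structureModule X) 2 s < 1
    haveI h2' : Subsingleton (Coh.HH (f.fiber s) (Coh.structureModule (f.fiber s)) 2) := h2
    haveI : Subsingleton (CohIII.fiberH f (Coh.structureModule X) s 2) :=
      @Equiv.subsingleton _ _ (BCLib.hhEquivΓ (AmpleLib.pullO (f.fiberι s)) 2).toEquiv h2'
    rw [CohIII.fiberRank, Module.finrank_zero_of_subsingleton]
    exact Nat.one_pos
  · let W := P.hom ⁻¹ᵁ U
    have key : ∀ x : W, ∃ V : P.left.Opens, x.1 ∈ V ∧ Smooth (V.ι ≫ P.hom) := fun x =>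
      exists_smooth_nhd_of_hasGeomLifts P.hom x.1 (hasGeomLifts_hom hφ (Nat.lt_one_iff.1 x.2))
    choose V hxV hV using key
    let O : ↥W → (W : Scheme.{u}).Opens := fun x => W.ι ⁻¹ᵁ V x
    refine IsZariskiLocalAtSource.of_openCover ((W : Scheme.{u}).openCoverOfIsOpenCover O
      (eq_top_iff.2 fun x _ => Opens.mem_iSup.2 ⟨x, hxV x⟩)) fun x => ?_
    show Smooth ((O x).ι ≫ W.ι ≫ P.hom)
    haveI := hV x
    have : (O x).ι ≫ W.ι = (W.ι ∣_ V x) ≫ (V x).ι := (morphismRestrict_ι W.ι (V x)).symm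
    rw [reassoc_of% this]
    exact inferInstanceAs (Smooth ((W.ι ∣_ V x) ≫ ((V x).ι ≫ P.hom)))

end Groth.Agent.PicInf
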