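import Groth.Agent.PicProjLib.Affine
import Groth.Agent.InvDescLib.Sections

/-!
# Invertible modules trivial off a prime divisor are trivial on it
-/

set_option autoImplicit false
set_option backward.isDefEq.respectTransparency false
set_option linter.style.haveILetI false

universe u

open CategoryTheory AlgebraicGeometry TopologicalSpace Opposite
open Groth.Agent.ParaFLib Groth.Agent.PullbackMod

noncomputable section

namespace Groth.Agent.PicInf

/-- A divisor of a power of a prime regular element is a unit times a power of it. -/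
theorem exists_unit_pow {R : Type u} [CommRing R] {p : R} (hreg : IsLeftRegular p) (hp : (Ideal.span {p}).IsPrime) :
    ∀ (n : ℕ) (f g : R), f * g = p ^ n → ∃ (v : R) (j : ℕ), IsUnit v ∧ f = v * p ^ j := by
  intro n
  induction n with
  | zero => exact fun f g h => ⟨f, 0, IsUnit.of_mul_eq_one g (by rw [h, pow_zero]), by rw [pow_zero, mul_one]⟩
  | succ n ih =>
    intro f g h
    have hm : f * g ∈ Ideal.span {p} := by
      rw [h]
      exact Ideal.mem_span_singleton.2 (dvd_pow_self p (Nat.succ_ne_zero n))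
    rcases hp.mem_or_mem hm with hf | hg
    · obtain ⟨f', rfl⟩ := Ideal.mem_span_singleton.1 hf
      obtain ⟨v, j, hv, rfl⟩ := ih f' g (hreg (by
        show p * (f' * g) = p * p ^ n
        rw [← mul_assoc, h, pow_succ']))
      exact ⟨v, j + 1, hv, by rw [pow_succ]; ring⟩
    · obtain ⟨g', rfl⟩ := Ideal.mem_span_singleton.1 hg
      exact ih f g' (hreg (by
        show p * (f * g') = p * p ^ n
        rw [mul_left_comm, h, pow_succ']))

/-- Exponents of a prime regular element are unique. -/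
theorem pow_unit_unique {R : Type u} [CommRing R] {p : R} (hreg : IsLeftRegular p) (hp : ¬ IsUnit p)
    {v : R} (hv : IsUnit v) : ∀ (i j : ℕ), p ^ i * v = p ^ j → v = 1
  | 0, 0, h => by simpa using h
  | 0, j + 1, h => absurd (isUnit_of_dvd_unit (dvd_pow_self p (Nat.succ_ne_zero j)) (h ▸ (by simpa using hv))) hp
  | i + 1, 0, h => absurd (isUnit_of_dvd_unit (dvd_pow_self p (Nat.succ_ne_zero i))
      (IsUnit.of_mul_eq_one v (by simpa using h))) hp
  | i + 1, j + 1, h => pow_unit_unique hreg hp hv i j (hreg (by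
      show p * (p ^ i * v) = p * p ^ j
      rw [← mul_assoc, ← pow_succ', ← pow_succ', h]))

variable {Y : Scheme.{u}}

/-- The function restricted to an open. -/
abbrev aR (a : Γ(Y, (⊤ : Y.Opens))) (O : Y.Opens) : Γ(Y, O) := Y.presheaf.map (homOfLE le_top).op a

theorem aR_res (a : Γ(Y, (⊤ : Y.Opens))) {O O' : Y.Opens} (h : O' ≤ O) :
    Y.presheaf.map (homOfLE h).op (aR a O) = aR a O' := by
  simp only [aR, ← ConcreteCategory.comp_apply, ← Functor.map_comp]
  rfl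

theorem germ_aR (a : Γ(Y, (⊤ : Y.Opens))) {O : Y.Opens} (z : Y) (hz : z ∈ O) :
    Y.presheaf.germ O z hz (aR a O) = Y.presheaf.germ ⊤ z trivial a :=
  Y.presheaf.germ_res_apply (homOfLE le_top) z hz a

theorem rr {U V W : Y.Opens} (r : Γ(Y, U)) (h₁ : V ≤ U) (h₂ : W ≤ V) :
    (Y.presheaf.map (homOfLE h₂).op).hom (Y.presheaf.map (homOfLE h₁).op r) =
      Y.presheaf.map (homOfLE (h₂.trans h₁)).op r := by
  simp only [← ConcreteCategory.comp_apply, ← Functor.map_comp]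
  rfl

/-- Sections agreeing off a regular element have the same germ. -/
theorem germ_eq_of_res_eq (a : Γ(Y, (⊤ : Y.Opens))) {Q : Y.Opens} (z : Y) (hz : z ∈ Q)
    (hreg : IsLeftRegular (Y.presheaf.germ ⊤ z trivial a)) {b c : Γ(Y, Q)}
    (h : Y.presheaf.map (homOfLE (inf_le_left : Q ⊓ Y.basicOpen a ≤ Q)).op b =
      Y.presheaf.map (homOfLE (inf_le_left : Q ⊓ Y.basicOpen a ≤ Q)).op c) :
    Y.presheaf.germ Q z hz b = Y.presheaf.germ Q z hz c := by
  obtain ⟨Q', hQ', hzQ', hle'⟩ := exists_isAffineOpen_mem_and_subset (X := Y) (x := z) (U := Q) hz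
  have hle : Q' ≤ Q := hle'
  have hb : Y.basicOpen (aR a Q') = Q' ⊓ Y.basicOpen a := Y.basicOpen_res a (homOfLE le_top).op
  let i : Y.basicOpen (aR a Q') ⟶ Q' := homOfLE (hb.le.trans inf_le_left)
  letI : Algebra Γ(Y, Q') Γ(Y, Y.basicOpen (aR a Q')) := (Y.presheaf.map i.op).hom.toAlgebra
  haveI : IsLocalization.Away (aR a Q') Γ(Y, Y.basicOpen (aR a Q')) :=
    hQ'.isLocalization_of_eq_basicOpen _ i rfl
  have he : algebraMap Γ(Y, Q') Γ(Y, Y.basicOpen (aR a Q')) (Y.presheaf.map (homOfLE hle).op b) =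
      algebraMap Γ(Y, Q') Γ(Y, Y.basicOpen (aR a Q')) (Y.presheaf.map (homOfLE hle).op c) := by
    have := congrArg (Y.presheaf.map (homOfLE (hb.le.trans (inf_le_inf_right _ hle)) :
      Y.basicOpen (aR a Q') ⟶ Q ⊓ Y.basicOpen a).op) h
    simp only [← ConcreteCategory.comp_apply, ← Functor.map_comp] at this
    show (Y.presheaf.map i.op).hom _ = (Y.presheaf.map i.op).hom _
    simp only [← ConcreteCategory.comp_apply, ← Functor.map_comp]
    exact this
  obtain ⟨⟨_, n, rfl⟩, hn⟩ := IsLocalization.exists_of_eq (M := Submonoid.powers (aR a Q')) he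
  have h2 := congrArg (Y.presheaf.germ Q' z hzQ') hn
  simp only [map_mul, map_pow] at h2
  rw [germ_aR, Y.presheaf.germ_res_apply, Y.presheaf.germ_res_apply] at h2
  exact (hreg.pow n) h2

variable (a : Γ(Y, (⊤ : Y.Opens)))
  (hreg : ∀ y : Y, y ∉ Y.basicOpen a → IsLeftRegular (Y.presheaf.germ ⊤ y trivial a))
  (hprime : ∀ y : Y, y ∉ Y.basicOpen a → (Ideal.span {Y.presheaf.germ ⊤ y trivial a}).IsPrime)

include hreg hprime

/-- A unit off the element is a unit times a power of it near a point of the divisor. -/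
theorem exists_unit_mul_pow {V : Y.Opens} (hV : IsAffineOpen V) {y : Y} (hyV : y ∈ V) (hy : y ∉ Y.basicOpen a)
    {c : Γ(Y, V ⊓ Y.basicOpen a)} (hc : IsUnit c) :
    ∃ (W : Y.Opens) (hWV : W ≤ V) (w : Γ(Y, W)) (i j : ℕ), y ∈ W ∧ IsUnit w ∧
      aR a (W ⊓ Y.basicOpen a) ^ i *
          Y.presheaf.map (homOfLE (inf_le_inf_right _ hWV : W ⊓ Y.basicOpen a ≤ V ⊓ Y.basicOpen a)).op c =
        aR a (W ⊓ Y.basicOpen a) ^ j * Y.presheaf.map (homOfLE (inf_le_left : W ⊓ Y.basicOpen a ≤ W)).op w := by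
  have hb : V ⊓ Y.basicOpen a = Y.basicOpen (aR a V) := (Y.basicOpen_res a (homOfLE le_top).op).symm
  let i₀ : V ⊓ Y.basicOpen a ⟶ V := homOfLE inf_le_left
  letI : Algebra Γ(Y, V) Γ(Y, V ⊓ Y.basicOpen a) := (Y.presheaf.map i₀.op).hom.toAlgebra
  haveI : IsLocalization.Away (aR a V) Γ(Y, V ⊓ Y.basicOpen a) :=
    hV.isLocalization_of_eq_basicOpen _ i₀ hb
  obtain ⟨⟨f, _, N, rfl⟩, hf⟩ := IsLocalization.surj (Submonoid.powers (aR a V)) c
  obtain ⟨d, hd⟩ := hc.exists_right_inv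
  obtain ⟨⟨f', _, M, rfl⟩, hf'⟩ := IsLocalization.surj (Submonoid.powers (aR a V)) d
  dsimp only at hf hf'
  have hff : algebraMap Γ(Y, V) Γ(Y, V ⊓ Y.basicOpen a) (f * f') =
      algebraMap Γ(Y, V) Γ(Y, V ⊓ Y.basicOpen a) (aR a V ^ (N + M)) := by
    rw [map_mul, ← hf, ← hf', mul_mul_mul_comm, hd, one_mul, ← map_mul, ← pow_add]
  have h1 := germ_eq_of_res_eq a y hyV (hreg y hy) (b := f * f') (c := aR a V ^ (N + M)) hff
  rw [map_mul, map_pow, germ_aR] at h1
  obtain ⟨v, j, hv, hvj⟩ := exists_unit_pow (hreg y hy) (hprime y hy) _ _ _ h1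
  obtain ⟨W₀, hyW₀, w₀, rfl⟩ := Y.presheaf.exists_germ_eq v
  have hyw : y ∈ Y.basicOpen w₀ := (Y.mem_basicOpen w₀ y hyW₀).2 hv
  have hgerm : Y.presheaf.germ V y hyV f =
      Y.presheaf.germ (V ⊓ Y.basicOpen w₀) y ⟨hyV, hyw⟩
        (Y.presheaf.map (homOfLE (inf_le_right.trans (Y.basicOpen_le w₀))).op w₀ * aR a _ ^ j) := by
    rw [map_mul, map_pow, germ_aR, Y.presheaf.germ_res_apply]
    exact hvj
  obtain ⟨W, hyW, iV, iW, he⟩ := Y.presheaf.germ_eq y hyV (⟨hyV, hyw⟩ : y ∈ V ⊓ Y.basicOpen w₀) _ _ hgerm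
  have hWb : W ≤ Y.basicOpen w₀ := iW.le.trans inf_le_right
  rw [show iV = homOfLE iV.le from Subsingleton.elim _ _, show iW = homOfLE iW.le from Subsingleton.elim _ _] at he
  refine ⟨W, iV.le, Y.presheaf.map (homOfLE (hWb.trans (Y.basicOpen_le w₀))).op w₀, N, j, hyW, ?_, ?_⟩
  · have := (RingedSpace.isUnit_res_basicOpen Y.toRingedSpace w₀).map (Y.presheaf.map (homOfLE hWb).op).hom
    exact rr w₀ _ hWb ▸ this
  · let ρ := (Y.presheaf.map (homOfLE (inf_le_inf_right _ iV.le :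
      W ⊓ Y.basicOpen a ≤ V ⊓ Y.basicOpen a)).op).hom
    let σ := (Y.presheaf.map (homOfLE (inf_le_left : W ⊓ Y.basicOpen a ≤ W)).op).hom
    have hsq : ∀ t : Γ(Y, V), ρ (algebraMap Γ(Y, V) Γ(Y, V ⊓ Y.basicOpen a) t) =
        σ (Y.presheaf.map (homOfLE iV.le).op t) := fun t => by
      show ρ ((Y.presheaf.map i₀.op).hom t) = _
      simp only [ρ, σ, ← ConcreteCategory.comp_apply, ← Functor.map_comp]
      rfl
    have h2 := congrArg ρ hf
    rw [map_mul, hsq, hsq, map_pow, map_pow, he, map_mul, map_pow, map_mul, map_pow, aR_res, aR_res, aR_res,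
      aR_res, mul_comm] at h2
    refine h2.trans ?_
    rw [mul_comm]
    congr 1
    simp only [σ, ← ConcreteCategory.comp_apply, ← Functor.map_comp]
    rfl

/-- An invertible module with a basis off the divisor of a prime regular element is trivial on the divisor. -/
theorem triv_pullback_of_gen_basicOpen {L : Y.Modules} (hL : PicF.IsInvertible L)
    {s : Γ(L, Y.basicOpen a)} (hs : Gen (Y.basicOpen a) s) {Z : Scheme.{u}} (g : Z ⟶ Y) (hg : g.appTop a = 0) :
    Nonempty ((Scheme.Modules.pullback g).obj L ≅ Coh.structureModule Z) := by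
  have hgD : ∀ z : Z, g z ∉ Y.basicOpen a := fun z hz => by
    have h := (Scheme.mem_basicOpen_top Z (g.appTop a) z).1 (by
      rw [show Z.basicOpen (g.appTop a) = g ⁻¹ᵁ Y.basicOpen a from (Scheme.preimage_basicOpen g a).symm]
      exact hz)
    rw [hg, map_zero] at h
    exact not_isUnit_zero h
  have hloc : ∀ y : Y, y ∉ Y.basicOpen a → ∃ (W : Y.Opens) (e : Γ(L, W)) (i j : ℕ), y ∈ W ∧ Gen W e ∧
      aR a (W ⊓ Y.basicOpen a) ^ i • L.presheaf.map (homOfLE (inf_le_right : W ⊓ Y.basicOpen a ≤ _)).op s =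
        aR a (W ⊓ Y.basicOpen a) ^ j • L.presheaf.map (homOfLE (inf_le_left : W ⊓ Y.basicOpen a ≤ W)).op e := by
    intro y hy
    obtain ⟨V₀, e₀, hyV₀, he₀⟩ := exists_gen_nhd hL y
    obtain ⟨V, hV, hyV, hle'⟩ := exists_isAffineOpen_mem_and_subset (X := Y) (x := y) (U := V₀) hyV₀
    have hle : V ≤ V₀ := hle'
    have he := he₀.res hle
    obtain ⟨c, hc, hcs⟩ := (hs.res (inf_le_right : V ⊓ Y.basicOpen a ≤ _)).exists_unit
      (he.res (inf_le_left : V ⊓ Y.basicOpen a ≤ V))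
    obtain ⟨W, hWV, w, i, j, hyW, hw, hwc⟩ := exists_unit_mul_pow a hreg hprime hV hyV hy hc
    refine ⟨W, w • L.presheaf.map (homOfLE hWV).op (L.presheaf.map (homOfLE hle).op e₀), i, j, hyW,
      (he.res hWV).smul hw, ?_⟩
    have h1 := congrArg (L.presheaf.map (homOfLE (inf_le_inf_right _ hWV :
      W ⊓ Y.basicOpen a ≤ V ⊓ Y.basicOpen a)).op) hcs
    simp only [L.map_smul, ParaFLib.res_res] at h1
    rw [← h1, L.map_smul, ParaFLib.res_res, ← mul_smul, ← mul_smul, hwc]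
    simp only [ParaFLib.res_res]
  choose W e i j hyW he hse using fun z : Z => hloc (g z) (hgD z)
  let N := (Scheme.Modules.pullback g).obj L
  let F : TopCat.Sheaf Ab.{u} Z.carrier := ⟨N.presheaf, N.isSheaf⟩
  let U : Z → Z.Opens := fun z => g ⁻¹ᵁ W z
  have hcov : (⊤ : Z.Opens) ≤ iSup U := fun z _ => Opens.mem_iSup.2 ⟨z, hyW z⟩
  let t : ∀ z, Γ(N, U z) := fun z => pullMap g L le_rfl (e z)
  have hcompat : TopCat.Presheaf.IsCompatible F.1 U t := by
    intro z₁ z₂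
    obtain ⟨v, hv, hve⟩ := ((he z₁).res (inf_le_left : (W z₁ ⊓ W z₂) ≤ W z₁)).exists_unit
      ((he z₂).res (inf_le_right : (W z₁ ⊓ W z₂) ≤ W z₂))
    have key : ∀ (z : Y) (hz : z ∈ (W z₁ ⊓ W z₂)), z ∉ Y.basicOpen a → Y.presheaf.germ (W z₁ ⊓ W z₂) z hz v = 1 := by
      intro z hz hzD
      have h1 := congrArg (L.presheaf.map (homOfLE (inf_le_inf_right _ inf_le_left :
        ((W z₁ ⊓ W z₂) ⊓ Y.basicOpen a) ≤ W z₁ ⊓ Y.basicOpen a)).op) (hse z₁)
      have h2 := congrArg (L.presheaf.map (homOfLE (inf_le_inf_right _ inf_le_right :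
        ((W z₁ ⊓ W z₂) ⊓ Y.basicOpen a) ≤ W z₂ ⊓ Y.basicOpen a)).op) (hse z₂)
      simp only [L.map_smul, map_pow, aR_res, ParaFLib.res_res] at h1 h2
      have h3 := congrArg (L.presheaf.map (homOfLE (inf_le_left : ((W z₁ ⊓ W z₂) ⊓ Y.basicOpen a) ≤ (W z₁ ⊓ W z₂))).op) hve
      simp only [L.map_smul, ParaFLib.res_res] at h3
      have h4 := congrArg (aR a ((W z₁ ⊓ W z₂) ⊓ Y.basicOpen a) ^ i z₂ • ·) h1
      rw [← h3, ← mul_smul, mul_comm, mul_smul, h2, ← mul_smul, ← mul_smul, ← mul_smul] at h4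
      have h5 := InvDescLib.gen_inj ((he z₂).res (inf_le_left.trans inf_le_right : ((W z₁ ⊓ W z₂) ⊓ Y.basicOpen a) ≤ W z₂)) h4
      have h6 : Y.presheaf.map (homOfLE (inf_le_left : ((W z₁ ⊓ W z₂) ⊓ Y.basicOpen a) ≤ (W z₁ ⊓ W z₂))).op (aR a (W z₁ ⊓ W z₂) ^ (i z₁ + j z₂)) =
          Y.presheaf.map (homOfLE (inf_le_left : ((W z₁ ⊓ W z₂) ⊓ Y.basicOpen a) ≤ (W z₁ ⊓ W z₂))).op (aR a (W z₁ ⊓ W z₂) ^ (i z₂ + j z₁) * v) := by
        simp only [map_mul, map_pow, aR_res, pow_add]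
        exact h5
      have h7 := germ_eq_of_res_eq a z hz (hreg z hzD) h6
      rw [map_mul, map_pow, map_pow, germ_aR] at h7
      exact pow_unit_unique (hreg z hzD) (fun hu => hzD ((Scheme.mem_basicOpen_top Y a z).2 hu)) (hv.map _) _ _
        h7.symm
    have happ : g.app (W z₁ ⊓ W z₂) v = 1 := by
      refine TopCat.Presheaf.section_ext Z.sheaf _ _ _ fun w hw => ?_
      rw [map_one]
      refine (Scheme.Hom.germ_stalkMap_apply g (W z₁ ⊓ W z₂) w hw v).symm.trans ?_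
      rw [key (g w) hw (hgD w), map_one]
    show N.presheaf.map (homOfLE (inf_le_left : U z₁ ⊓ U z₂ ≤ U z₁)).op (t z₁) =
      N.presheaf.map (homOfLE (inf_le_right : U z₁ ⊓ U z₂ ≤ U z₂)).op (t z₂)
    have h8 := congrArg (pullMap g L (le_rfl : g ⁻¹ᵁ (W z₁ ⊓ W z₂) ≤ g ⁻¹ᵁ (W z₁ ⊓ W z₂))) hve
    rw [pullMap_smul, ← Scheme.Hom.app_eq_appLE, happ, one_smul] at h8
    rw [pullMap_res g L le_rfl (inf_le_left : (W z₁ ⊓ W z₂) ≤ W z₁) inf_le_left le_rfl,
      pullMap_res g L le_rfl (inf_le_right : (W z₁ ⊓ W z₂) ≤ W z₂) inf_le_right le_rfl]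
    exact h8.symm
  obtain ⟨S, hS, -⟩ := F.existsUnique_gluing' U ⊤ (fun _ => homOfLE le_top) hcov t hcompat
  refine PicProjLib.triv_of_gen_top (s := S) (gen_of_cover U (fun _ => le_top) hcov fun z => ?_)
  rw [show N.presheaf.map (homOfLE (le_top : U z ≤ ⊤)).op S = t z from hS z]
  exact AmpleEmb.gen_pullMap g hL (he z)

end Groth.Agent.PicInf
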